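import Mathlib
import Cfsg.Agent.H264.GN.Exc

/-!
# Arithmetic of the orders inside `GL_n(p^E)`: the linear groups (helper95)
-/

set_option autoImplicit false

namespace Cfsg.Agent.H95.GN

open Cfsg.Agent.OrdDiv Cfsg.Agent.H436 Cfsg.Agent.H915.GN Cfsg.Agent.H264.GN

variable {p n E c f M d t : ℕ}

/-- the second exponent decides the rank -/
theorem rank_of_dvd (hn : n.Prime) {m i : ℕ} (hm : 2 ≤ m) (hi1 : 1 ≤ i) (hi2 : i ≤ n) (h : n * (m - 1) ∣ m * i) :
    m = 2 ∨ m = n := by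
  obtain ⟨k, rfl⟩ : ∃ k, m = k + 1 := ⟨m - 1, by omega⟩
  rw [Nat.add_sub_cancel] at h
  have hk : 1 ≤ k := by omega
  have hco : Nat.Coprime k (k + 1) := by simp
  rcases hn.dvd_mul.1 ((Dvd.intro _ rfl).trans h) with h1 | h1
  · -- `n ∣ m`
    right
    obtain ⟨a, ha⟩ := h1
    have ha1 : 1 ≤ a := by
      rcases Nat.eq_zero_or_pos a with rfl | h2
      · omega
      · exact h2
    have h2 : k ∣ a * i := by
      refine Nat.dvd_of_mul_dvd_mul_left hn.pos ?_
      rw [← mul_assoc, ← ha]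
      exact h
    have h3 : Nat.Coprime k a := Nat.Coprime.coprime_dvd_right ⟨n, by rw [ha, mul_comm]⟩ hco
    have h4 : k ≤ i := Nat.le_of_dvd hi1 (h3.dvd_of_dvd_mul_left h2)
    rcases Nat.lt_or_ge a 2 with h5 | h5
    · obtain rfl : a = 1 := by omega
      rw [ha, mul_one]
    · have := hn.two_le
      nlinarith
  · left
    have h2 : i = n := le_antisymm hi2 (Nat.le_of_dvd hi1 h1)
    rw [h2, mul_comm (k + 1)] at h
    have h3 := Nat.dvd_of_mul_dvd_mul_left hn.pos h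
    have h4 : k ∣ 1 := (Nat.dvd_add_right dvd_rfl).1 h3
    have := Nat.dvd_one.1 h4
    omega

theorem cop_pow_sub (hp : p.Prime) {m : ℕ} (hm : 1 ≤ m) : Nat.Coprime p (p ^ m - 1) := by
  refine (Nat.Prime.coprime_iff_not_dvd hp).2 fun h => ?_
  have h2 := Nat.dvd_sub (dvd_pow_self p (show m ≠ 0 by omega)) h
  rw [Nat.sub_sub_self (Nat.one_le_pow _ _ hp.pos)] at h2
  exact hp.one_lt.ne' (Nat.dvd_one.1 h2)

/-- the `p`-part from the order equation -/
theorem ppart (hp : p.Prime) (hE : 1 ≤ E) {a D X : ℕ} (hdvd : c ∣ glN n (p ^ E)) (hc : D * c = (p ^ f) ^ a * X)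
    (hD : Nat.Coprime p D) : f * a ≤ E * (n * (n - 1) / 2) := by
  refine pow_le hp hE (Dvd.dvd.trans ?_ hdvd)
  refine (Nat.Coprime.pow_left _ hD).dvd_of_dvd_mul_left ?_
  rw [hc, ← pow_mul]
  exact Dvd.intro _ rfl

/-- a prime `n ≥ 5` does not divide a number all of whose prime divisors are small -/
theorem nE_ne (hn : n.Prime) (hn5 : 5 ≤ n) {k : ℕ} (hk : k ∣ 2 ^ 4 * 3 ^ 4) : n * E ≠ k := by
  intro h
  have h1 : n ∣ 2 ^ 4 * 3 ^ 4 := (Dvd.intro _ h).trans hk
  rcases hn.dvd_mul.1 h1 with h2 | h2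
  · have := Nat.le_of_dvd (by norm_num) (hn.dvd_of_dvd_pow h2); omega
  · have := Nat.le_of_dvd (by norm_num) (hn.dvd_of_dvd_pow h2); omega

theorem gn_psl (hp : p.Prime) (hn : n.Prime) (hn5 : 5 ≤ n) (hE : 1 ≤ E) {m q : ℕ} (hg : Cond (.psl m q))
    (hch : HasChar p (.psl m q)) (_hc0 : c ≠ 0) (hc : den (.psl m q) * c = num (.psl m q))
    (hdvd : c ∣ glN n (p ^ E)) (hs : ∀ s, Prim p (n * E) s → s ∣ c) : GNOut n E p (.psl m q) := by
  obtain ⟨hm, -, hq⟩ := hg
  obtain ⟨f, rfl⟩ := hch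
  have hf : 1 ≤ f := f_pos hq rfl
  refine ⟨f, rfl, ?_⟩
  have h1 : Nat.gcd m (p ^ f - 1) * (p ^ f - 1) * c = glN m (p ^ f) := hc
  have hnE : 5 ≤ n * E := by nlinarith
  -- the primitive primes divide
  have hlow : ∀ d, 2 ≤ d → d ≤ m → ∀ t, Prim p (f * d) t → t ∣ c := fun d hd hdm t ht => by
    have hq1 : ¬ t ∣ p ^ f - 1 := by
      intro h
      have h2 := Nat.le_of_dvd hf ((ht.dvd_iff _).1 h)
      nlinarith
    have h2 : t ∣ Nat.gcd m (p ^ f - 1) * (p ^ f - 1) * c := by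
      rw [h1]
      have h2 := dvd_list (fun i => (p ^ f) ^ m - (p ^ f) ^ i) (n := m) (i := m - d) (by omega)
      refine Dvd.dvd.trans ?_ h2
      rw [pow_sub_pow (p ^ f) (show m = (m - d) + d by omega)]
      exact (dvd_of_prim ht dvd_rfl).mul_left _
    refine (ht.prime.dvd_mul.1 h2).resolve_left fun h3 => ?_
    rcases ht.prime.dvd_mul.1 h3 with h4 | h4
    · exact hq1 (h4.trans (Nat.gcd_dvd_right _ _))
    · exact hq1 h4
  -- the upper bound
  have hup : ∀ s, Prim p (n * E) s → ∃ j, 1 ≤ j ∧ j ≤ m ∧ n * E ∣ f * j := fun s hs' => by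
    obtain ⟨j, h2, h3, h4⟩ := exists_exp hs' (n := m) (E := f)
      (by rw [← h1]; exact (hs s hs').mul_left _)
    exact ⟨j, h2, h3, h4⟩
  obtain ⟨s, hs'⟩ := exists_prim_nE hp hn hn5 hE
  obtain ⟨j, hj1, hj2, hj3⟩ := hup s hs'
  have hj4 := Nat.le_of_dvd (by positivity) hj3
  have hj5 : f * j ≤ f * m := Nat.mul_le_mul_left _ hj2
  by_cases h6 : p = 2 ∧ f * m = 6
  · -- `PSL_6(2)`
    exfalso
    obtain ⟨rfl, h6⟩ := h6
    have hnE6 : n * E ≠ 6 := nE_ne hn hn5 (by decide)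
    have hnE5 : n * E = 5 := by omega
    have hfj : f * j = 5 := by
      rw [hnE5] at hj3
      omega
    have hf1 : f = 1 := by
      have h7 : f ∣ 5 := Dvd.intro _ hfj
      have h8 : f ∣ 6 := Dvd.intro _ h6
      have := Nat.dvd_sub h8 h7
      exact Nat.dvd_one.1 this
    have hn' : n = 5 := by
      have := Nat.le_of_dvd (by norm_num) (Dvd.intro _ hnE5 : n ∣ 5)
      omega
    have hE' : E = 1 := by
      rw [hn'] at hnE5
      omega
    have hm' : m = 6 := by rw [hf1] at h6; omega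
    rw [hm', glN_eq] at h1
    have := ppart (f := f) Nat.prime_two hE hdvd h1
      (Nat.Coprime.mul_right (Nat.Coprime.coprime_dvd_right (Nat.gcd_dvd_right _ _) (cop_pow_sub Nat.prime_two hf))
        (cop_pow_sub Nat.prime_two hf))
    rw [hf1, hn', hE'] at this
    omega
  have hfM : f * m = n * E := by
    refine top hp hn hn5 hE hdvd (by omega) h6 (fun _ _ => by omega) (hlow m hm le_rfl)
  rcases Nat.lt_or_ge m 3 with h3 | h3
  · left
    have : m = 2 := by omega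
    exact ⟨this, by rw [← hfM, this, mul_comm]⟩
  right
  have hfin : m = n → m = n ∧ f = E := fun h => by
    refine ⟨h, ?_⟩
    rw [h, mul_comm] at hfM
    exact Nat.eq_of_mul_eq_mul_left hn.pos hfM
  have hfm' : f * m = f * (m - 1) + f := by
    obtain ⟨k, rfl⟩ : ∃ k, m = k + 1 := ⟨m - 1, by omega⟩
    rw [Nat.add_sub_cancel]; ring
  by_cases h7 : p = 2 ∧ f * (m - 1) = 6
  · have hf6 : f ∣ 6 := Dvd.intro _ h7.2
    have h8 := Nat.le_of_dvd (by norm_num) hf6
    have hm1 : m - 1 ≤ 6 := Nat.le_of_dvd (by norm_num) (Dvd.intro_left _ h7.2)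
    have h9 : n * E = 6 + f := by omega
    have e1 : n * E ≠ 8 := nE_ne hn hn5 (by decide)
    have e2 : n * E ≠ 9 := nE_ne hn hn5 (by decide)
    have e3 : n * E ≠ 12 := nE_ne hn hn5 (by decide)
    have hf' : f = 1 := by
      interval_cases f <;> omega
    have hm' : m = 7 := by
      rw [hf'] at h7
      omega
    have hn7 : n = 7 := by
      have h10 : n ∣ 7 := ⟨E, by omega⟩
      exact (Nat.prime_dvd_prime_iff_eq hn (by norm_num)).1 h10
    exact hfin (by omega)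
  have hd3 : 3 ≤ f * (m - 1) := by
    have h8 : 2 * f ≤ f * (m - 1) := by
      rw [mul_comm 2 f]
      exact Nat.mul_le_mul_left _ (by omega)
    omega
  obtain ⟨i, hi1, hi2, hi⟩ := second hp hf hdvd hfM hd3 h7 (hlow (m - 1) (by omega) (by omega))
  exact hfin ((rank_of_dvd hn hm hi1 hi2 hi).resolve_left (by omega))

end Cfsg.Agent.H95.GN
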