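import Mathlib
import Cfsg.Agent.H95.GN.Psl

/-!
# Arithmetic of the orders inside `GL_n(p^E)`: the symplectic and orthogonal groups (helper95)
-/

set_option autoImplicit false

namespace Cfsg.Agent.H95.GN

open Cfsg.Agent.OrdDiv Cfsg.Agent.H436 Cfsg.Agent.H915.GN Cfsg.Agent.H264.GN

variable {p n E c f M d t : ℕ}

/-- the exponents of `prB` -/
theorem prB_prim {m s e : ℕ} (hs : Prim p e s) (h : s ∣ prB (p ^ f) m) :
    ∃ j, 1 ≤ j ∧ j ≤ m ∧ e ∣ f * (2 * j) := by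
  unfold prB at h
  rw [prod_list, Prime.dvd_finsetProd_iff hs.prime.prime] at h
  obtain ⟨i, hi, h⟩ := h
  rw [Finset.mem_range] at hi
  rw [← pow_mul, hs.dvd_iff] at h
  exact ⟨i + 1, by omega, by omega, h⟩

theorem dvd_prB_of {m j : ℕ} (hj1 : 1 ≤ j) (hj : j ≤ m) : (p ^ f) ^ (2 * j) - 1 ∣ prB (p ^ f) m := by
  have := prB_dvd (q := p ^ f) (m := m) (i := j - 1) (by omega)
  rwa [Nat.sub_add_cancel hj1] at this

/-- the common argument for the symplectic groups and the odd-dimensional orthogonal groups -/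
theorem spcore (hp : p.Prime) (hn : n.Prime) (hn5 : 5 ≤ n) (hE : 1 ≤ E) {m D : ℕ} (hm : 2 ≤ m) (hf : 1 ≤ f)
    (hc : D * c = (p ^ f) ^ (m ^ 2) * prB (p ^ f) m) (hD : Nat.Coprime p D)
    (hD2 : ∀ k t, 1 ≤ k → Prim p k t → ¬ t ∣ D ∨ k < 3)
    (hdvd : c ∣ glN n (p ^ E)) (hs : ∀ s, Prim p (n * E) s → s ∣ c) : False := by
  have hnE : 5 ≤ n * E := by nlinarith
  -- the primitive primes divide
  have hlow : ∀ j, 1 ≤ j → j ≤ m → 3 ≤ f * (2 * j) → ∀ t, Prim p (f * (2 * j)) t → t ∣ c :=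
    fun j hj1 hj hj3 t ht => by
      have h2 : t ∣ D * c := by
        rw [hc]
        exact (dvd_of_prim ht (dvd_prB_of hj1 hj)).mul_left _
      exact (ht.prime.dvd_mul.1 h2).resolve_left ((hD2 _ t (by omega) ht).resolve_right (by omega))
  obtain ⟨s, hs'⟩ := exists_prim_nE hp hn hn5 hE
  obtain ⟨j, hj1, hj2, hj3⟩ : ∃ j, 1 ≤ j ∧ j ≤ m ∧ n * E ∣ f * (2 * j) := by
    have h1 : s ∣ (p ^ f) ^ (m ^ 2) * prB (p ^ f) m := by
      rw [← hc]; exact (hs s hs').mul_left _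
    rcases hs'.prime.dvd_mul.1 h1 with h2 | h2
    · rw [← pow_mul] at h2
      exact absurd h2 (hs'.not_dvd_pow _)
    · exact prB_prim hs' h2
  have hj4 := Nat.le_of_dvd (by positivity) hj3
  have hj5 : f * (2 * j) ≤ f * (2 * m) := Nat.mul_le_mul_left _ (by omega)
  have h6 : ¬ (p = 2 ∧ f * (2 * m) = 6) := by
    rintro ⟨-, h6⟩
    have hnE6 : n * E ≠ 6 := nE_ne hn hn5 (by decide)
    have hnE5 : n * E = 5 := by omega
    rw [hnE5] at hj3
    have h7 : f * (2 * j) = 2 * (f * j) := by ring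
    omega
  have hfM : f * (2 * m) = n * E := by
    refine top hp hn hn5 hE hdvd (by omega) h6 (fun _ _ => by omega) (hlow m (by omega) le_rfl (by omega))
  rcases Nat.lt_or_ge m 3 with h3 | h3
  · obtain rfl : m = 2 := by omega
    have hnf : n ∣ f := by
      refine (hn.dvd_mul.1 (show n ∣ f * (2 * 2) from ⟨E, hfM⟩)).resolve_right fun h => ?_
      exact nE_ne hn hn5 (E := (2 * 2) / n) (by decide) (Nat.mul_div_cancel' h)
    have hf5 := Nat.le_of_dvd (by omega) hnf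
    refine tpart hp hn hn5 hf hdvd (M := 4) hfM (by decide)
      (fun t ht => (hD2 f t hf ht).resolve_right (by omega)) ?_
    rw [hc, pow_two]
    refine (Dvd.dvd.trans ?_ (prB_two le_rfl)).mul_left _
    exact Nat.mul_dvd_mul (sub_dvd_pow_sub _ _) (sub_dvd_pow_sub _ _)
  · have hfm' : f * (2 * m) = f * (2 * (m - 1)) + 2 * f := by
      obtain ⟨k, rfl⟩ : ∃ k, m = k + 1 := ⟨m - 1, by omega⟩
      rw [Nat.add_sub_cancel]; ring
    have h8 : 4 * f ≤ f * (2 * (m - 1)) := by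
      rw [mul_comm 4 f]
      exact Nat.mul_le_mul_left _ (by omega)
    have h7 : ¬ (p = 2 ∧ f * (2 * (m - 1)) = 6) := by
      rintro ⟨-, h7⟩
      have hf1 : f = 1 := by omega
      have h9 : n * E = 8 := by omega
      exact nE_ne hn hn5 (by decide) h9
    obtain ⟨i, hi1, hi2, hi⟩ := second hp hf hdvd hfM (by omega) h7
      (hlow (m - 1) (by omega) (by omega) (by omega))
    have hi' : n * (m - 1) ∣ m * i := by
      refine Nat.dvd_of_mul_dvd_mul_left (show 0 < 2 by norm_num) ?_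
      have e1 : 2 * (n * (m - 1)) = n * (2 * (m - 1)) := by ring
      have e2 : 2 * (m * i) = 2 * m * i := by ring
      rw [e1, e2]
      exact hi
    obtain rfl := (rank_of_dvd hn hm hi1 hi2 hi').resolve_left (by omega)
    have hfE : 2 * f = E := by
      apply Nat.eq_of_mul_eq_mul_left hn.pos
      rw [← hfM]; ring
    have h9 := ppart hp hE hdvd hc hD
    have h10 : m * (m - 1) / 2 * 2 ≤ m * (m - 1) := Nat.div_mul_le_self _ _
    rw [← hfE] at h9
    have h11 : f * m ^ 2 ≤ f * (m * (m - 1)) := by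
      calc f * m ^ 2 ≤ 2 * f * (m * (m - 1) / 2) := h9
        _ = f * (m * (m - 1) / 2 * 2) := by ring
        _ ≤ _ := Nat.mul_le_mul_left _ h10
    have h12 := Nat.le_of_mul_le_mul_left h11 (by omega)
    rw [pow_two] at h12
    have h13 := Nat.le_of_mul_le_mul_left h12 hn.pos
    omega

theorem gn_psp (hp : p.Prime) (hn : n.Prime) (hn5 : 5 ≤ n) (hE : 1 ≤ E) {m q : ℕ} (hg : Cond (.psp m q))
    (hch : HasChar p (.psp m q)) (_hc0 : c ≠ 0) (hc : den (.psp m q) * c = num (.psp m q))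
    (hdvd : c ∣ glN n (p ^ E)) (hs : ∀ s, Prim p (n * E) s → s ∣ c) : GNOut n E p (.psp m q) := by
  obtain ⟨hm, -, hq⟩ := hg
  obtain ⟨f, rfl⟩ := hch
  have hf : 1 ≤ f := f_pos hq rfl
  have h1 : Nat.gcd 2 (p ^ f - 1) * c = (p ^ f) ^ (m ^ 2) * prB (p ^ f) m := hc
  change False
  have hD2 : ∀ k t, Prim p k t → t ∣ Nat.gcd 2 (p ^ f - 1) → t = 2 := fun k t ht h =>
    (Nat.prime_dvd_prime_iff_eq ht.prime Nat.prime_two).1 (h.trans (Nat.gcd_dvd_left _ _))
  refine spcore hp hn hn5 hE hm hf h1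
    (Nat.Coprime.coprime_dvd_right (Nat.gcd_dvd_right _ _) (cop_pow_sub hp hf)) (fun k t hk ht => ?_) hdvd hs
  by_contra hcon
  push Not at hcon
  have h2 := hD2 k t ht hcon.1
  have := ht.odd (by omega)
  omega

theorem gn_oodd (hp : p.Prime) (hn : n.Prime) (hn5 : 5 ≤ n) (hE : 1 ≤ E) {m q : ℕ} (hg : Cond (.oodd m q))
    (hch : HasChar p (.oodd m q)) (_hc0 : c ≠ 0) (hc : den (.oodd m q) * c = num (.oodd m q))
    (hdvd : c ∣ glN n (p ^ E)) (hs : ∀ s, Prim p (n * E) s → s ∣ c) : GNOut n E p (.oodd m q) := by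
  obtain ⟨hm, ho, hq⟩ := hg
  obtain ⟨f, rfl⟩ := hch
  have hf : 1 ≤ f := f_pos hq rfl
  have h1 : 2 * c = (p ^ f) ^ (m ^ 2) * prB (p ^ f) m := hc
  change False
  refine spcore hp hn hn5 hE (by omega) hf h1 ?_ (fun k t hk ht => ?_) hdvd hs
  · refine (Nat.coprime_primes hp Nat.prime_two).2 ?_
    rintro rfl
    exact (Nat.not_even_iff_odd.2 ho) ((Nat.even_pow.2 ⟨even_two, by omega⟩))
  · by_contra hcon
    push Not at hcon
    have h2 := (Nat.prime_dvd_prime_iff_eq ht.prime Nat.prime_two).1 hcon.1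
    have := ht.odd (by omega)
    omega

end Cfsg.Agent.H95.GN
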