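import Mathlib
import Cfsg.Agent.H95.GN.Psp

/-!
# Arithmetic of the orders inside `GL_n(p^E)`: the orthogonal groups of plus type (helper95)
-/

set_option autoImplicit false

namespace Cfsg.Agent.H95.GN

open Cfsg.Agent.OrdDiv Cfsg.Agent.H436 Cfsg.Agent.H915.GN Cfsg.Agent.H264.GN

variable {p n E c f M d t : ℕ}

theorem gn_oplus (hp : p.Prime) (hn : n.Prime) (hn5 : 5 ≤ n) (hE : 1 ≤ E) {m q : ℕ} (hg : Cond (.oplus m q))
    (hch : HasChar p (.oplus m q)) (_hc0 : c ≠ 0) (hc : den (.oplus m q) * c = num (.oplus m q))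
    (hdvd : c ∣ glN n (p ^ E)) (hs : ∀ s, Prim p (n * E) s → s ∣ c) : GNOut n E p (.oplus m q) := by
  obtain ⟨hm, hq⟩ := hg
  obtain ⟨f, rfl⟩ := hch
  have hf : 1 ≤ f := f_pos hq rfl
  have h1 : Nat.gcd 4 ((p ^ f) ^ m - 1) * c = (p ^ f) ^ (m * (m - 1)) * (((p ^ f) ^ m - 1) * prB (p ^ f) (m - 1)) :=
    hc
  change False
  have hnE : 5 ≤ n * E := by nlinarith
  obtain ⟨k, hk⟩ : ∃ k, k = m - 1 := ⟨_, rfl⟩
  have hmk : m = k + 1 := by omega
  have hk3 : 3 ≤ k := by omega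
  rw [hmk, Nat.add_sub_cancel] at h1
  have hD4 : ∀ e t, 3 ≤ e → Prim p e t → ¬ t ∣ Nat.gcd 4 ((p ^ f) ^ (k + 1) - 1) := fun e t he ht =>
    ht.not_dvd_gcd_four he
  -- the primitive primes divide
  have hlow : ∀ j, 1 ≤ j → j ≤ k → 3 ≤ f * (2 * j) → ∀ t, Prim p (f * (2 * j)) t → t ∣ c :=
    fun j hj1 hj hj3 t ht => by
      have h2 : t ∣ Nat.gcd 4 ((p ^ f) ^ (k + 1) - 1) * c := by
        rw [h1]
        exact ((dvd_of_prim ht (dvd_prB_of hj1 hj)).mul_left _).mul_left _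
      exact (ht.prime.dvd_mul.1 h2).resolve_left (hD4 _ t hj3 ht)
  obtain ⟨s, hs'⟩ := exists_prim_nE hp hn hn5 hE
  -- the upper bound
  have hup : (∃ j, 1 ≤ j ∧ j ≤ k ∧ n * E ∣ f * (2 * j)) ∨ n * E ∣ f * (k + 1) := by
    have h2 : s ∣ (p ^ f) ^ ((k + 1) * k) * (((p ^ f) ^ (k + 1) - 1) * prB (p ^ f) k) := by
      rw [← h1]; exact (hs s hs').mul_left _
    rcases hs'.prime.dvd_mul.1 h2 with h3 | h3
    · rw [← pow_mul] at h3
      exact absurd h3 (hs'.not_dvd_pow _)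
    rcases hs'.prime.dvd_mul.1 h3 with h4 | h4
    · rw [← pow_mul, hs'.dvd_iff] at h4
      exact Or.inr h4
    · exact Or.inl (prB_prim hs' h4)
  have hle : n * E ≤ f * (2 * k) := by
    rcases hup with ⟨j, hj1, hj2, hj3⟩ | h2
    · exact (Nat.le_of_dvd (by positivity) hj3).trans (Nat.mul_le_mul_left _ (by omega))
    · exact (Nat.le_of_dvd (by positivity) h2).trans (Nat.mul_le_mul_left _ (by omega))
  have h6 : ¬ (p = 2 ∧ f * (2 * k) = 6) := by
    rintro ⟨-, h6⟩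
    have hnE6 : n * E ≠ 6 := nE_ne hn hn5 (by decide)
    have hnE5 : n * E = 5 := by omega
    have hf1 : f = 1 ∧ k = 3 := by
      have h7 : f * (2 * k) = 2 * (f * k) := by ring
      have h8 : f * 3 ≤ f * k := Nat.mul_le_mul_left _ hk3
      have h9 : f = 1 := by omega
      refine ⟨h9, ?_⟩
      rw [h9] at h6
      omega
    rw [hnE5, hf1.1, hf1.2] at hup
    rcases hup with ⟨j, hj1, hj2, hj3⟩ | h2
    · omega
    · omega
  have h12 : f * 6 ≤ f * (2 * k) := Nat.mul_le_mul_left _ (by omega)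
  have hfM : f * (2 * k) = n * E :=
    top hp hn hn5 hE hdvd (by omega) h6 (fun _ _ => hle) (hlow k (by omega) le_rfl (by omega))
  have hfm' : f * (2 * k) = f * (2 * (k - 1)) + 2 * f := by
    obtain ⟨l, rfl⟩ : ∃ l, k = l + 1 := ⟨k - 1, by omega⟩
    rw [Nat.add_sub_cancel]; ring
  have h8 : f * 4 ≤ f * (2 * (k - 1)) := Nat.mul_le_mul_left _ (by omega)
  have h7 : ¬ (p = 2 ∧ f * (2 * (k - 1)) = 6) := by
    rintro ⟨-, h7⟩
    have hf1 : f = 1 := by omega
    have h9 : n * E = 8 := by omega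
    exact nE_ne hn hn5 (by decide) h9
  obtain ⟨i, hi1, hi2, hi⟩ := second hp hf hdvd hfM (by omega) h7
    (hlow (k - 1) (by omega) (by omega) (by omega))
  have hi' : n * (k - 1) ∣ k * i := by
    refine Nat.dvd_of_mul_dvd_mul_left (show 0 < 2 by norm_num) ?_
    have e1 : 2 * (n * (k - 1)) = n * (2 * (k - 1)) := by ring
    have e2 : 2 * (k * i) = 2 * k * i := by ring
    rw [e1, e2]
    exact hi
  obtain rfl := (rank_of_dvd hn (by omega) hi1 hi2 hi').resolve_left (by omega)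
  have hfE : 2 * f = E := by
    apply Nat.eq_of_mul_eq_mul_left hn.pos
    rw [← hfM]; ring
  have h9 := ppart hp hE hdvd h1
    (Nat.Coprime.coprime_dvd_right (Nat.gcd_dvd_right _ _) (by rw [← pow_mul]; exact cop_pow_sub hp (by nlinarith)))
  have h10 : k * (k - 1) / 2 * 2 ≤ k * (k - 1) := Nat.div_mul_le_self _ _
  rw [← hfE] at h9
  have h11 : f * ((k + 1) * k) ≤ f * (k * (k - 1)) := by
    calc f * ((k + 1) * k) ≤ 2 * f * (k * (k - 1) / 2) := h9
      _ = f * (k * (k - 1) / 2 * 2) := by ring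
      _ ≤ _ := Nat.mul_le_mul_left _ h10
  have h12 := Nat.le_of_mul_le_mul_left h11 (by omega)
  rw [mul_comm] at h12
  have h13 := Nat.le_of_mul_le_mul_left h12 hn.pos
  omega

end Cfsg.Agent.H95.GN
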